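import Cfsg.Agent.Lib.Frobenius.Char
import Cfsg.Agent.Lib.PLocal.FPF
import Cfsg.Agent.Lib.PGroup.Basic
import Cfsg.Agent.Lib.Induce.TI
import Cfsg.Agent.Lib.Char.Product
import Cfsg.Prelude.Def_OddOrderChar

/-!
# Normal subgroups containing the centralizers of their nonidentity elements

Such a subgroup is a Hall subgroup, and nilpotent when proper.  We also collect the elementary
facts on the irreducible characters whose kernel does not contain the subgroup, as used for
trivial-intersection subgroups with Frobenius normalizer.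
-/

set_option autoImplicit false

namespace Cfsg.Lib.Frobenius

open Subgroup Cfsg.Lib.Char Cfsg.Lib.Induce Cfsg.Lib.Clifford
open scoped ComplexConjugate

variable {G : Type*} [Group G]

/-- A normal subgroup containing the centralizers of its nonidentity elements is a Hall subgroup. -/
theorem coprime_card_index_of_centralizer_le [Finite G] (K : Subgroup G) [K.Normal]
    (hC : ∀ k ∈ K, k ≠ 1 → centralizer ({k} : Set G) ≤ K) : (Nat.card K).Coprime K.index := by
  refine Nat.coprime_of_dvd fun p hp hpK hpi => ?_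
  haveI := Fact.mk hp
  obtain ⟨P⟩ : Nonempty (Sylow p G) := inferInstance
  haveI : Group.IsNilpotent (P : Subgroup G) := P.isPGroup'.isNilpotent
  have hne : K ⊓ (P : Subgroup G) ≠ ⊥ := by
    intro e
    obtain ⟨x, hx⟩ := exists_prime_orderOf_dvd_card' (G := K) p hpK
    have hx' : IsPGroup p (zpowers (x : G)) := by
      refine IsPGroup.of_card (n := 1) ?_
      rw [Nat.card_zpowers, pow_one, Subgroup.orderOf_coe, hx]
    obtain ⟨Q, hQ⟩ := hx'.exists_le_sylow
    obtain ⟨g, rfl⟩ := MulAction.exists_smul_eq G Q P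
    have hm : g * x * g⁻¹ ∈ K ⊓ ((g • Q : Sylow p G) : Subgroup G) := by
      refine ⟨Normal.conj_mem inferInstance _ x.2 g, ?_⟩
      rw [Sylow.coe_subgroup_smul]
      exact ⟨x, hQ (mem_zpowers _), rfl⟩
    rw [e, mem_bot] at hm
    have hx1 : (x : G) = 1 := by
      have := congrArg (fun y => g⁻¹ * y * g) hm
      simpa [mul_assoc] using this
    have : x = 1 := Subtype.ext hx1
    rw [this, orderOf_one] at hx
    exact hp.one_lt.ne hx
  have h := PGroup.inf_centralizer_ne_bot_of_nilpotent (S := (P : Subgroup G))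
    (N := K ⊓ (P : Subgroup G)) inf_le_right
    (fun g hg => by
      rw [mem_normalizer_iff]
      intro y
      simp only [SetLike.mem_coe, mem_inf]
      constructor
      · rintro ⟨h1, h2⟩
        exact ⟨Normal.conj_mem inferInstance _ h1 g, mul_mem (mul_mem hg h2) (inv_mem hg)⟩
      · rintro ⟨h1, h2⟩
        refine ⟨?_, ?_⟩
        · simpa [mul_assoc] using Normal.conj_mem inferInstance _ h1 g⁻¹
        · simpa [mul_assoc] using mul_mem (mul_mem (inv_mem hg) h2) hg) hne
  obtain ⟨⟨z, hz⟩, hz1⟩ := (Subgroup.ne_bot_iff_exists_ne_one).1 h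
  have hz1' : z ≠ 1 := fun e => hz1 (Subtype.ext e)
  have hPK : (P : Subgroup G) ≤ K := fun g hg => hC z hz.1.1 hz1' (by
    rw [mem_centralizer_singleton_iff]
    exact (mem_centralizer_iff.1 hz.2) g hg)
  exact P.not_dvd_index (hpi.trans (index_dvd_of_le hPK))

/-- In the situation of `coprime_card_index_of_centralizer_le`, an element whose order divides
the order of the subgroup lies in the subgroup. -/
theorem mem_of_orderOf_dvd_of_centralizer_le [Finite G] (K : Subgroup G) [K.Normal]
    (hC : ∀ k ∈ K, k ≠ 1 → centralizer ({k} : Set G) ≤ K) {x : G} (hx : orderOf x ∣ Nat.card K) :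
    x ∈ K := by
  rw [← QuotientGroup.eq_one_iff, ← orderOf_eq_one_iff]
  refine Nat.eq_one_of_dvd_coprimes (coprime_card_index_of_centralizer_le K hC)
    ((orderOf_map_dvd (QuotientGroup.mk' K) x).trans hx) ?_
  exact orderOf_dvd_natCard _

/-- A proper normal subgroup containing the centralizers of its nonidentity elements is nilpotent. -/
theorem isNilpotent_of_centralizer_le [Finite G] (K : Subgroup G) [K.Normal] (hK : K ≠ ⊤)
    (hC : ∀ k ∈ K, k ≠ 1 → centralizer ({k} : Set G) ≤ K) : Group.IsNilpotent K := by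
  obtain ⟨H, hH⟩ := exists_right_complement'_of_coprime (coprime_card_index_of_centralizer_le K hC)
  refine PLocal.isNilpotent_of_fpf (H := H) le_normalizer_of_normal ?_ fun h hh h1 => ?_
  · rintro rfl
    exact hK (by simpa using hH.sup_eq_top)
  · refine inf_centralizer_eq_bot_of_centralizer_le K hC fun hk => h1 ?_
    exact hH.disjoint.le_bot ⟨hk, hh⟩

/-- A nontrivial finite solvable group has a nontrivial linear character. -/
theorem exists_hom_ne_one_of_isSolvable (K : Type*) [Group K] [Finite K] [Nontrivial K]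
    [Group.IsSolvable K] : ∃ lam : K →* ℂˣ, lam ≠ 1 := by
  have h : (commutator K).index ≠ 1 := by
    rw [Ne, index_eq_one]
    exact (Group.IsSolvable.commutator_lt_top_of_nontrivial K).ne
  rw [← card_hom_units] at h
  haveI : Finite (K →* ℂˣ) := Nat.finite_of_card_ne_zero (by rw [card_hom_units]; exact index_ne_zero_of_finite)
  haveI : Nontrivial (K →* ℂˣ) := Finite.one_lt_card_iff_nontrivial.1
    (lt_of_le_of_ne Nat.card_pos (Ne.symm h))
  exact exists_ne 1

theorem centralizer_le_subgroupOf {K : Subgroup G} (N : Subgroup G)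
    (hC : ∀ k ∈ K, k ≠ 1 → centralizer ({k} : Set G) ≤ K) :
    ∀ k ∈ K.subgroupOf N, k ≠ 1 → centralizer ({k} : Set N) ≤ K.subgroupOf N := by
  intro k hk hk1 x hx
  refine hC k hk (fun e => hk1 (Subtype.ext e)) ?_
  rw [mem_centralizer_singleton_iff] at hx ⊢
  exact congrArg Subtype.val hx

theorem subgroupOf_ne_top_of_lt {K N : Subgroup G} (h : K < N) : K.subgroupOf N ≠ ⊤ :=
  fun e => h.not_ge (subgroupOf_eq_top.1 e)

/-- An element normalizing `K` and conjugate to an element of `K` lies in `K`. -/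
theorem mem_of_conj_mem_of_centralizer_le [Finite G] {K : Subgroup G}
    (hC : ∀ k ∈ K, k ≠ 1 → centralizer ({k} : Set G) ≤ K) {x g : G}
    (hx : x ∈ normalizer (K : Set G)) (hg : g * x * g⁻¹ ∈ K) : x ∈ K := by
  refine mem_of_orderOf_dvd_of_centralizer_le (K.subgroupOf (normalizer (K : Set G)))
    (centralizer_le_subgroupOf _ hC) (x := ⟨x, hx⟩) ?_
  rw [Nat.card_congr (subgroupOfEquivOfLe le_normalizer).toEquiv, ← Subgroup.orderOf_coe,
    ← (MulAut.conj g).orderOf_eq x]
  exact K.orderOf_dvd_natCard hg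

/-- Induction from the normalizer of a trivial-intersection subgroup with Frobenius normalizer. -/
theorem indFun_apply_of_tifn [Fintype G] {K : Subgroup G}
    (hTI : ∀ g : G, g ∉ normalizer (K : Set G) → ∀ k ∈ K, g * k * g⁻¹ ∈ K → k = 1)
    (hC : ∀ k ∈ K, k ≠ 1 → centralizer ({k} : Set G) ≤ K) {θ : normalizer (K : Set G) → ℂ}
    (hθ : IsClassFunction _ θ) (hθK : ∀ x : normalizer (K : Set G), (x : G) ∉ K → θ x = 0)
    (h1 : θ 1 = 0) (x : normalizer (K : Set G)) : indFun (normalizer (K : Set G)) θ x = θ x := by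
  by_cases hx : (x : G) ∈ K
  · by_cases hx1 : x = 1
    · subst hx1
      rw [OneMemClass.coe_one, indFun_one, h1, mul_zero]
    · exact indFun_apply_of_ti _ (K : Set G) hTI hθ hθK x hx hx1
  · rw [hθK x hx]
    exact indFun_eq_zero_of_not_conj_mem _ (K : Set G) hθK _ fun g hg =>
      hx (mem_of_conj_mem_of_centralizer_le hC x.2 hg)

section Relevant

variable [Fintype G] (K : Subgroup G)

/-- A class function orthogonal to the irreducible characters whose kernel does not contain `K`
is constant on `K`. -/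
theorem apply_eq_apply_one_of_orth {f : G → ℂ} (hf : IsClassFunction G f)
    (h : ∀ χ, IsIrrCharacter G χ → (∃ k ∈ K, χ k ≠ χ 1) → classInner f χ = 0) {k : G} (hk : k ∈ K) :
    f k = f 1 := by
  rw [hf.apply_eq_sum_irr k, hf.apply_eq_sum_irr 1]
  refine Finset.sum_congr rfl fun χ _ => ?_
  by_cases hχ : ∃ k ∈ K, (χ : G → ℂ) k ≠ (χ : G → ℂ) 1
  · rw [h χ χ.2 hχ, zero_mul, zero_mul]
  · push Not at hχ
    rw [hχ k hk]

/-- A class function whose inner products with the irreducible characters not having `K` in their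
kernel are proportional to the degrees is constant on the nonidentity elements of `K`. -/
theorem apply_eq_of_inner_eq_mul {f : G → ℂ} (hf : IsClassFunction G f) (c : ℂ)
    (h : ∀ χ, IsIrrCharacter G χ → (∃ k ∈ K, χ k ≠ χ 1) → classInner f χ = c * χ 1) {k : G}
    (hk : k ∈ K) (hk1 : k ≠ 1) : f k = f 1 - c * Nat.card G := by
  have := apply_eq_apply_one_of_orth K (f := f - c • regChar G)
    (hf.sub (isCharacter_regChar.isClassFunction.smul c)) (fun χ hχ hker => by
      rw [classInner_sub_left, classInner_smul_left, classInner_regChar_left, h χ hχ hker,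
        hχ.isCharacter.conj_apply_one, sub_self]) hk
  simpa [regChar_of_ne_one hk1] using this

variable [hK : K.Normal]

theorem classInner_indFun_one_eq_zero_of_ker {ξ : G → ℂ} (hξ : IsIrrCharacter G ξ)
    (hker : ∃ k ∈ K, ξ k ≠ ξ 1) : classInner (indFun K fun _ => 1) ξ = 0 := by
  classical
  rw [frobenius_reciprocity K _ hξ.isClassFunction, classInner_eq_zero_comm]
  by_contra h
  obtain ⟨k, hk, hne⟩ := hker
  exact hne ((classInner_res_one_ne_zero_iff K hξ).1 h k hk)

/-- If `K` contains the centralizers of its nonidentity elements and there are two irreducible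
characters not having `K` in their kernel, none of them is constant on the nonidentity elements. -/
theorem exists_apply_ne_of_two (hC : ∀ k ∈ K, k ≠ 1 → centralizer ({k} : Set G) ≤ K)
    {χ ξ : G → ℂ} (hχ : IsIrrCharacter G χ) (hχk : ∃ k ∈ K, χ k ≠ χ 1) (hξ : IsIrrCharacter G ξ)
    (hξk : ∃ k ∈ K, ξ k ≠ ξ 1) (hne : χ ≠ ξ) : ∃ a ∈ K, ∃ b ∈ K, a ≠ 1 ∧ b ≠ 1 ∧ χ a ≠ χ b := by
  by_contra hcon
  push Not at hcon
  obtain ⟨k, hk, hkne⟩ := id hχk
  have hk1 : k ≠ 1 := fun e => hkne (by rw [e])
  have hi : (K.index : ℂ) ≠ 0 := Nat.cast_ne_zero.2 index_ne_zero_of_finite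
  have hG : (Nat.card G : ℂ) ≠ 0 := card_ne_zero_complex G
  have hind : ∀ g ∈ K, indFun K (fun _ => (1 : ℂ)) g = K.index := fun g hg => by
    have := indFun_normal_apply_of_invariant K (fun _ => (1 : ℂ)) (fun _ _ => rfl) ⟨g, hg⟩
    simpa using this
  have e : χ = (χ k / K.index) • indFun K (fun _ => 1) + ((χ 1 - χ k) / Nat.card G) • regChar G := by
    funext g
    simp only [Pi.add_apply, Pi.smul_apply, smul_eq_mul]
    by_cases hg : g ∈ K
    · rw [hind g hg]
      by_cases hg1 : g = 1
      · subst hg1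
        rw [regChar_one]; field_simp; ring
      · rw [regChar_of_ne_one hg1, hcon g hg k hk hg1 hk1]; field_simp; ring
    · have hg1 : g ≠ 1 := fun e => hg (e ▸ K.one_mem)
      rw [indFun_normal_of_not_mem K _ hg, regChar_of_ne_one hg1,
        apply_eq_zero_of_fpf K hχ hχk (inf_centralizer_eq_bot_of_centralizer_le K hC hg)]
      ring
  have h0 := hχ.inner_eq_zero_of_ne hξ hne
  rw [e, classInner_add_left, classInner_smul_left, classInner_smul_left,
    classInner_indFun_one_eq_zero_of_ker K hξ hξk, classInner_regChar_left,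
    hξ.isCharacter.conj_apply_one, mul_zero, zero_add] at h0
  rcases mul_eq_zero.1 h0 with h0 | h0
  · rw [div_eq_zero_iff, or_iff_left hG, sub_eq_zero] at h0
    exact hkne h0.symm
  · exact hξ.apply_one_ne_zero h0

end Relevant

section Coherent

variable [Fintype G] {N : Subgroup G} [Fintype N] {S : Set (N → ℂ)} {star : (N → ℂ) → (G → ℂ)}

omit [Fintype G] [Fintype N] in
theorem cross_mem_zspanOn {χ ξ : N → ℂ} (hχ : χ ∈ S) (hξ : ξ ∈ S) {a b : ℤ} (ha : χ 1 = a)
    (hb : ξ 1 = b) : b • χ - a • ξ ∈ zspanOn S ({1}ᶜ : Set N) := by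
  refine ⟨Submodule.sub_mem _ (Submodule.smul_mem _ _ (Submodule.subset_span hχ))
    (Submodule.smul_mem _ _ (Submodule.subset_span hξ)), fun x hx => ?_⟩
  have : x = 1 := by simpa using hx
  subst this
  simp [ha, hb, mul_comm]

theorem isometry_map_cross (hstar : IsLinearIsometryOn (zspan S) star) {χ ξ : N → ℂ} (hχ : χ ∈ S)
    (hξ : ξ ∈ S) (a b : ℤ) : star (b • χ - a • ξ) = b • star χ - a • star ξ := by
  have h1 : χ ∈ zspan S := Submodule.subset_span hχ
  have h2 : ξ ∈ zspan S := Submodule.subset_span hξ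
  rw [sub_eq_add_neg, ← neg_smul, hstar.1 _ (Submodule.smul_mem _ _ h1) _ (Submodule.smul_mem _ _ h2),
    hstar.2.1 _ h1, hstar.2.1 _ h2, neg_smul, ← sub_eq_add_neg]

/-- Comparison of a class function of `G` with a class function of `N` having the same inner products
with the images of the members of a coherent set. -/
theorem exists_res_sub_const {K : Subgroup N}
    (hS : S = {χ | IsIrrCharacter N χ ∧ ∃ k ∈ K, χ k ≠ χ 1})
    (hstar : IsLinearIsometryOn (zspan S) star)
    (hext : ∀ α ∈ zspanOn S ({1}ᶜ : Set N), star α = indFun N α) {φ : G → ℂ}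
    (hφ : IsClassFunction G φ) {φ' : N → ℂ} (hφ' : IsClassFunction N φ')
    (h : ∀ χ ∈ S, classInner φ (star χ) = classInner φ' χ) :
    ∃ v : ℂ, ∀ k ∈ K, k ≠ 1 → φ k - φ' k = v := by
  have hf : IsClassFunction N ((fun x : N => φ x) - φ') := (hφ.restrict N).sub hφ'
  have key : ∀ χ ∈ S, ∀ ξ ∈ S, ξ 1 * classInner ((fun x : N => φ x) - φ') χ =
      χ 1 * classInner ((fun x : N => φ x) - φ') ξ := by
    intro χ hχ ξ hξ
    have hχ' : IsIrrCharacter N χ := (hS ▸ hχ).1
    have hξ' : IsIrrCharacter N ξ := (hS ▸ hξ).1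
    obtain ⟨a, ha⟩ := hχ'.isGeneralizedCharacter.exists_apply_one
    obtain ⟨b, hb⟩ := hξ'.isGeneralizedCharacter.exists_apply_one
    have e := congrArg (classInner φ) (hext _ (cross_mem_zspanOn hχ hξ ha hb))
    rw [isometry_map_cross hstar hχ hξ, frobenius_reciprocity' N _ hφ] at e
    simp only [classInner_sub_right, classInner_zsmul_right, h χ hχ, h ξ hξ] at e
    rw [classInner_sub_left, classInner_sub_left, ha, hb]
    linear_combination -e
  by_cases hne : S.Nonempty
  · obtain ⟨ξ, hξ⟩ := hne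
    have hξ' : IsIrrCharacter N ξ := (hS ▸ hξ).1
    refine ⟨_, fun k hk hk1 => apply_eq_of_inner_eq_mul K hf
      (classInner ((fun x : N => φ x) - φ') ξ / ξ 1) (fun χ hχ hker => ?_) hk hk1⟩
    have := key χ (hS ▸ ⟨hχ, hker⟩) ξ hξ
    have h0 := hξ'.apply_one_ne_zero
    field_simp
    linear_combination this
  · refine ⟨_, fun k hk hk1 => apply_eq_of_inner_eq_mul K hf 0 (fun χ hχ hker => ?_) hk hk1⟩
    exact absurd ⟨χ, hS ▸ ⟨hχ, hker⟩⟩ hne

end Coherent

end Cfsg.Lib.Frobenius
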